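import Groth.Agent.Lib.GeomReg.Comp
import Groth.Agent.Lib.GeomReg.Local
import Mathlib.RingTheory.TensorProduct.Quotient
import Mathlib.RingTheory.Flat.EquationalCriterion

/-!
# Regular homomorphisms modulo an ideal
-/

set_option autoImplicit false
set_option backward.isDefEq.respectTransparency false

universe u

open scoped TensorProduct

namespace Smoothing.Popescu

variable {R S T : Type u} [CommRing R] [CommRing S] [CommRing T] [Algebra R S] [Algebra R T]

theorem isRegularHom_of_algEquiv (e : S ≃ₐ[R] T) (h : CAlg.IsRegularHom R S) : CAlg.IsRegularHom R T := by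
  rw [GrothLib.GeomReg.isRegularHom_iff] at h ⊢
  refine ⟨?_, fun K _ _ hK => ?_⟩
  · haveI := h.1
    exact Module.Flat.of_linearEquiv e.symm.toLinearEquiv
  · haveI := h.2 K hK
    exact IsRegularRing.of_ringEquiv (R := K ⊗[R] S)
      (Algebra.TensorProduct.congr (AlgEquiv.refl : K ≃ₐ[R] K) e).toRingEquiv

theorem isRegularHom_quotient (h : CAlg.IsRegularHom R S) (I : Ideal R) :
    CAlg.IsRegularHom (R ⧸ I) (S ⧸ I.map (algebraMap R S)) := by
  haveI : Algebra.FiniteType R (R ⧸ I) :=
    Algebra.FiniteType.of_surjective (Ideal.Quotient.mkₐ R I) Ideal.Quotient.mk_surjective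
  have hb : CAlg.IsRegularHom (R ⧸ I) ((R ⧸ I) ⊗[R] S) := GrothLib.GeomReg.isRegularHom_baseChange h
  let e₁ := (Algebra.TensorProduct.quotIdealMapEquivTensorQuot S I).symm
  let e₀ : ((R ⧸ I) ⊗[R] S) ≃+* (S ⧸ I.map (algebraMap R S)) :=
    (Algebra.TensorProduct.comm R (R ⧸ I) S).toRingEquiv.trans e₁.toRingEquiv
  refine isRegularHom_of_algEquiv (AlgEquiv.ofRingEquiv (f := e₀) fun r => ?_) hb
  obtain ⟨r, rfl⟩ := Ideal.Quotient.mk_surjective r
  show e₁ (Algebra.TensorProduct.comm R (R ⧸ I) S (algebraMap R ((R ⧸ I) ⊗[R] S) r)) = _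
  rw [AlgEquiv.commutes, IsScalarTower.algebraMap_apply R S (S ⊗[R] (R ⧸ I)), AlgEquiv.commutes]
  rfl

theorem isRegularHom_of_bijective {R' : Type u} [CommRing R'] [Algebra R R'] [Algebra R' S] [IsScalarTower R R' S]
    (hb : Function.Bijective (algebraMap R R')) (h : CAlg.IsRegularHom R S) : CAlg.IsRegularHom R' S := by
  haveI : IsLocalization (⊥ : Submonoid R) R :=
    IsLocalization.self fun x hx => by rw [Submonoid.mem_bot.1 hx]; exact isUnit_one
  haveI : IsLocalization (⊥ : Submonoid R) R' :=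
    IsLocalization.isLocalization_of_algEquiv (⊥ : Submonoid R) (AlgEquiv.ofBijective (Algebra.ofId R R') hb)
  exact (GrothLib.GeomReg.isRegularHom_localization_left (R' := R') (⊥ : Submonoid R)).2 h

/-- Flatness carries the annihilator condition. -/
theorem ann_sq_of_flat [Module.Flat R S] (π : R) (hR : ∀ r : R, π ^ 2 * r = 0 → π * r = 0) (x : S)
    (hx : π ^ 2 • x = 0) : π • x = 0 := by
  obtain ⟨κ, a, y, hy, hay⟩ := Module.Flat.isTrivialRelation_of_sum_smul_eq_zero (R := R) (ι := Fin 1) (f := fun _ => π ^ 2) (x := fun _ => x)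
    (by simpa using hx)
  rw [show x = ∑ j, a 0 j • y j from hy 0, Finset.smul_sum]
  refine Finset.sum_eq_zero fun j _ => ?_
  rw [← mul_smul, hR _ (by simpa using hay j), zero_smul]

end Smoothing.Popescu
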