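import Groth.Agent.Lib.Smoothing.Popescu.Cover
import Groth.Agent.Lib.Smoothing.Insep.Specialize

/-!
# Geometrically regular algebras over fields are ind-smooth
-/

set_option autoImplicit false
set_option backward.isDefEq.respectTransparency false

universe u

open scoped TensorProduct

namespace Smoothing.Popescu

theorem resolvable_field {k A Λ : Type u} [Field k] [CommRing A] [Algebra k A] [Algebra.FinitePresentation k A]
    [CommRing Λ] [Algebra k Λ] [IsNoetherianRing Λ] (hreg : CAlg.IsGeometricallyRegular k Λ) (φ : A →ₐ[k] Λ)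
    (𝔮 : Ideal Λ) [𝔮.IsPrime] (hmin : 𝔮 ∈ (singRad k φ).minimalPrimes) : Resolvable k φ 𝔮 := by
  obtain h0 | ⟨p, hp, hpk⟩ := CharP.exists' k
  · haveI := hreg k (Module.Finite.self k)
    haveI : IsRegularRing Λ :=
      IsRegularRing.of_ringEquiv (R := k ⊗[k] Λ) (Algebra.TensorProduct.lid k Λ).toRingEquiv
    haveI : IsRegularLocalRing (Localization.AtPrime 𝔮) := IsRegularRing.isRegularLocalRing_localization 𝔮
    haveI : Algebra.IsGeometricallyReduced k 𝔮.ResidueField :=
      GrothLib.SepField.isGeometricallyReduced_of_perfectField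
    exact Separable.resolvable φ 𝔮 hmin
  · exact Insep.resolvable p hreg φ 𝔮 hmin

theorem indSmooth_of_isGeometricallyRegular {k Λ : Type u} [Field k] [CommRing Λ] [Algebra k Λ]
    [IsNoetherianRing Λ] (hreg : CAlg.IsGeometricallyRegular k Λ) : IndSmooth k Λ := by
  have key : ∀ (J : Ideal Λ) (A : Type u) [CommRing A] [Algebra k A] [Algebra.FinitePresentation k A]
      (φ : A →ₐ[k] Λ), singRad k φ = J → ∃ (B : Type u) (_ : CommRing B) (_ : Algebra k B),
        Algebra.Smooth k B ∧ ∃ (g : A →ₐ[k] B) (h : B →ₐ[k] Λ), h.comp g = φ := by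
    intro J
    induction J using WellFoundedGT.induction with
    | ind J ih =>
      intro A _ _ _ φ hJ
      rcases eq_or_ne J ⊤ with htop | hne
      · have h1 : (singularIdeal k A).map φ = ⊤ := Ideal.radical_eq_top.1 (hJ.trans htop)
        exact exists_smooth_of_map_singularIdeal_eq_top φ h1
      · obtain ⟨m, hm, hJm⟩ := Ideal.exists_le_maximal J hne
        haveI := hm.isPrime
        obtain ⟨q, hq, -⟩ := Ideal.exists_minimalPrimes_le hJm
        haveI := hq.1.1
        obtain ⟨B, _, _, hB, g, h, hgh, hle, hne'⟩ := resolvable_field hreg φ q (hJ ▸ hq)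
        haveI := hB
        have hlt : J < singRad k h := lt_of_le_of_ne (hJ ▸ hle) fun he => hne' (he ▸ hq.1.2)
        obtain ⟨C, _, _, hC, g', h', hgh'⟩ := ih _ hlt B h rfl
        exact ⟨C, inferInstance, inferInstance, hC, g'.comp g, h',
          by rw [← AlgHom.comp_assoc, hgh', hgh]⟩
  intro A _ _ hA φ
  exact key _ A φ rfl

end Smoothing.Popescu
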