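import Groth.Agent.Lib.Smoothing.Popescu.Base
import Groth.Agent.Lib.Smoothing.Popescu.FieldCase
import Groth.Agent.Lib.Smoothing.Delocalize
import Groth.Agent.Lib.Smoothing.DesingLift
import Groth.Agent.Lib.Smoothing.NilDeform
import Mathlib.RingTheory.KrullDimension.Zero
import Mathlib.RingTheory.LocalProperties.Reduced

/-!
# Regular homomorphisms are ind-smooth
-/

set_option autoImplicit false
set_option backward.isDefEq.respectTransparency false

universe u

open scoped TensorProduct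

namespace Smoothing.Popescu

/-- The residue field of a minimal prime of a reduced ring is the local ring. -/
theorem isLocalization_residueField {R : Type u} [CommRing R] [IsReduced R] (P : Ideal R) [P.IsPrime]
    (hP : P ∈ minimalPrimes R) : IsLocalization.AtPrime P.ResidueField P := by
  let L := Localization.AtPrime P
  haveI : IsReduced L := inferInstance
  haveI : Ring.KrullDimLE 0 L := by
    rw [Ring.krullDimLE_iff, IsLocalization.AtPrime.ringKrullDim_eq_height P L, Ideal.height_eq_zero_iff.2 hP]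
    rfl
  have hbij : Function.Bijective (algebraMap L P.ResidueField) := by
    refine ⟨(injective_iff_map_eq_zero _).2 fun x hx => ?_, IsLocalRing.residue_surjective⟩
    refine IsReduced.eq_zero _ (Ring.KrullDimLE.isNilpotent_iff_mem_maximalIdeal.2 ?_)
    exact (IsLocalRing.residue_eq_zero_iff x).1 hx
  exact IsLocalization.isLocalization_of_algEquiv P.primeCompl
    (AlgEquiv.ofBijective (IsScalarTower.toAlgHom R L P.ResidueField) hbij)

/-- A field at a prime gives an elementary standard element off the prime. -/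
theorem exists_elementary {R A Λ : Type u} [CommRing R] [CommRing A] [Algebra R A] [Algebra.FinitePresentation R A]
    [CommRing Λ] [Algebra R Λ] (φ : A →ₐ[R] Λ) (P : Ideal R) [P.IsPrime] (K : Type u) [Field K] [Algebra R K]
    [IsLocalization.AtPrime K P] (hN : IsNoetherianRing (K ⊗[R] Λ))
    (hgeo : CAlg.IsGeometricallyRegular K (K ⊗[R] Λ)) :
    ∃ (B : Type u) (_ : CommRing B) (_ : Algebra R B) (α : A →ₐ[R] B) (β : B →ₐ[R] Λ),
      β.comp α = φ ∧ ∃ s ∈ P.primeCompl, IsElementaryStandard R B (algebraMap R B s) := by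
  haveI := hN
  haveI : Algebra.FinitePresentation K (K ⊗[R] A) := Algebra.FinitePresentation.baseChange _
  obtain ⟨B', _, _, hB', g', h', hgh'⟩ := indSmooth_of_isGeometricallyRegular hgeo (K ⊗[R] A) inferInstance
    (Algebra.TensorProduct.map (AlgHom.id K K) φ)
  haveI := hB'
  exact Smoothing.delocalize_base (R := R) (A := A) (Λ := Λ) (Rₛ := K) (B' := B') φ (S := P.primeCompl) g' h' hgh'

theorem indSmooth_of_reduced {R Λ : Type u} [CommRing R] [IsNoetherianRing R] [IsReduced R] [CommRing Λ]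
    [IsNoetherianRing Λ] [Algebra R Λ] (hreg : CAlg.IsRegularHom R Λ)
    (ih : ∀ J : Ideal R, J ≠ ⊥ → IndSmooth (R ⧸ J) (Λ ⧸ J.map (algebraMap R Λ))) : IndSmooth R Λ := by
  classical
  intro A _ _ hA φ
  rcases subsingleton_or_nontrivial R with hs | hn
  · haveI : Subsingleton Λ := (algebraMap R Λ).codomain_trivial
    let z : A →ₐ[R] R :=
      { toFun := fun _ => 0
        map_one' := Subsingleton.elim _ _
        map_mul' := fun _ _ => Subsingleton.elim _ _
        map_zero' := rfl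
        map_add' := fun _ _ => Subsingleton.elim _ _
        commutes' := fun _ => Subsingleton.elim _ _ }
    exact ⟨R, inferInstance, inferInstance, ⟨inferInstance, inferInstance⟩, z, Algebra.ofId R Λ,
      AlgHom.ext fun _ => Subsingleton.elim _ _⟩
  obtain ⟨P, hP⟩ := Ideal.nonempty_minimalPrimes (bot_ne_top : (⊥ : Ideal R) ≠ ⊤)
  haveI := hP.1.1
  haveI := hreg.1
  haveI := isLocalization_residueField P hP
  obtain ⟨hNoeth, hgeo⟩ := hreg.2 P
  obtain ⟨B, _, _, α, β, hβα, π, hπP, hstd⟩ := exists_elementary φ P P.ResidueField hNoeth hgeo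
  haveI : Algebra.FinitePresentation R B := by
    obtain ⟨M, -⟩ := hstd
    exact Algebra.FinitePresentation.of_surjective M.surj ⟨Finset.image M.rel Finset.univ, by
      rw [Finset.coe_image, Finset.coe_univ, Set.image_univ]; exact M.ker_eq.symm⟩
  have hR : ∀ r : R, π ^ 2 * r = 0 → π * r = 0 := fun r hr =>
    IsReduced.eq_zero _ ⟨2, by rw [mul_pow, pow_two r, ← mul_assoc, hr, zero_mul]⟩
  have hπ0 : Ideal.span {π ^ 8} ≠ (⊥ : Ideal R) := fun h => hπP
    (hP.1.1.mem_of_pow_mem 8 (by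
      rw [Ideal.span_singleton_eq_bot.1 h]
      exact P.zero_mem))
  let J : Ideal R := Ideal.span {π ^ 8}
  have hJ : J.map (algebraMap R Λ) = Ideal.span {algebraMap R Λ (π ^ 8)} := by
    rw [Ideal.map_span, Set.image_singleton]
  let φJ : (R ⧸ J) ⊗[R] B →ₐ[R ⧸ J] Λ ⧸ J.map (algebraMap R Λ) :=
    Algebra.TensorProduct.lift (Algebra.ofId (R ⧸ J) _) ((Ideal.Quotient.mkₐ R _).comp β)
      fun _ _ => Commute.all _ _
  haveI : Algebra.FinitePresentation (R ⧸ J) ((R ⧸ J) ⊗[R] B) := Algebra.FinitePresentation.baseChange _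
  obtain ⟨C, _, _, hC, gC, hC', hgC⟩ := ih J hπ0 ((R ⧸ J) ⊗[R] B) inferInstance φJ
  haveI := hC
  letI : Algebra R C := ((algebraMap (R ⧸ J) C).comp (algebraMap R (R ⧸ J))).toAlgebra
  haveI : IsScalarTower R (R ⧸ J) C := IsScalarTower.of_algebraMap_eq fun _ => rfl
  let γ : B →ₐ[R] C := (gC.restrictScalars R).comp Algebra.TensorProduct.includeRight
  let g : C →ₐ[R] Λ ⧸ Ideal.span {algebraMap R Λ (π ^ 8)} :=
    (Ideal.quotientEquivAlgOfEq R hJ).toAlgHom.comp (hC'.restrictScalars R)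
  obtain ⟨B₂, _, _, hB₂, α₂, β₂, hβα₂, hsm, hle⟩ := desingularize_lifting π hR
    (ann_sq_of_flat π hR) β (isStrictlyStandard_of_isElementaryStandard hstd) γ g fun x => by
      show Ideal.quotientEquivAlgOfEq R hJ (hC' (gC (1 ⊗ₜ x))) = _
      rw [show hC' (gC (1 ⊗ₜ x)) = φJ (1 ⊗ₜ x) from AlgHom.congr_fun hgC _,
        Algebra.TensorProduct.lift_tmul, map_one, one_mul]
      rfl
  haveI := hB₂
  have hπH : algebraMap R Λ π ∈ (singularIdeal R B₂).map β₂ := by
    rw [← β₂.commutes]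
    refine Ideal.mem_map_of_mem _ ?_
    rw [singularIdeal, PrimeSpectrum.mem_vanishingIdeal]
    intro Q hQ
    by_contra hc
    exact hQ (hsm Q.asIdeal hc)
  have htop : (singularIdeal R B₂).map β₂ = ⊤ := by
    refine Ideal.radical_eq_top.1 ?_
    rw [Separable.singularIdeal_eq_top (R ⧸ J) C, Ideal.map_top, top_le_iff] at hle
    rw [Ideal.eq_top_iff_one] at hle ⊢
    obtain ⟨y, hy, hy1⟩ := (Ideal.mem_map_iff_of_surjective _ Ideal.Quotient.mk_surjective).1 hle
    rw [← map_one (Ideal.Quotient.mk (Ideal.span {algebraMap R Λ (π ^ 8)})), Ideal.Quotient.eq] at hy1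
    obtain ⟨c, hc⟩ := Ideal.mem_span_singleton'.1 hy1
    have : (1 : Λ) = y - c * algebraMap R Λ (π ^ 8) := by rw [hc]; ring
    rw [this, map_pow]
    exact sub_mem hy (Ideal.mul_mem_left _ _ (Ideal.pow_mem_of_mem _ (Ideal.le_radical hπH) 8 (by norm_num)))
  obtain ⟨C', _, _, hC'sm, g₂, k₂, hk₂⟩ := exists_smooth_of_map_singularIdeal_eq_top β₂ htop
  exact ⟨C', inferInstance, inferInstance, hC'sm, (g₂.comp α₂).comp α, k₂,
    by rw [← AlgHom.comp_assoc, ← AlgHom.comp_assoc, hk₂, hβα₂, hβα]⟩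

theorem indSmooth_quotient_aux {R : Type u} [CommRing R] [IsNoetherianRing R] (I : Ideal R) :
    ∀ (Λ : Type u) [CommRing Λ] [IsNoetherianRing Λ] [Algebra (R ⧸ I) Λ],
      CAlg.IsRegularHom (R ⧸ I) Λ → IndSmooth (R ⧸ I) Λ := by
  induction I using WellFoundedGT.induction with
  | ind I ih =>
    intro Λ _ _ _ hreg
    have hstep : ∀ J : Ideal (R ⧸ I), J ≠ ⊥ →
        IndSmooth ((R ⧸ I) ⧸ J) (Λ ⧸ J.map (algebraMap (R ⧸ I) Λ)) := by
      intro J hJ
      let J₀ : Ideal R := J.comap (Ideal.Quotient.mk I)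
      have hmapJ : J₀.map (Ideal.Quotient.mk I) = J :=
        Ideal.map_comap_of_surjective _ Ideal.Quotient.mk_surjective J
      have hlt : I < J₀ := by
        refine lt_of_le_of_ne (fun x hx => ?_) fun he => hJ ?_
        · show Ideal.Quotient.mk I x ∈ J
          rw [Ideal.Quotient.eq_zero_iff_mem.2 hx]
          exact J.zero_mem
        · rw [← hmapJ, ← he, Ideal.map_quotient_self]
      let t : R →+* (R ⧸ I) ⧸ J := (Ideal.Quotient.mk J).comp (Ideal.Quotient.mk I)
      have ht : ∀ x ∈ J₀, t x = 0 := fun x hx => Ideal.Quotient.eq_zero_iff_mem.2 hx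
      let Λ' := Λ ⧸ J.map (algebraMap (R ⧸ I) Λ)
      letI : Algebra (R ⧸ J₀) ((R ⧸ I) ⧸ J) := (Ideal.Quotient.lift J₀ t ht).toAlgebra
      have hbij : Function.Bijective (algebraMap (R ⧸ J₀) ((R ⧸ I) ⧸ J)) := by
        refine ⟨(injective_iff_map_eq_zero _).2 fun x hx => ?_, fun y => ?_⟩
        · obtain ⟨x, rfl⟩ := Ideal.Quotient.mk_surjective x
          have hx' : Ideal.Quotient.mk J (Ideal.Quotient.mk I x) = 0 := hx
          exact Ideal.Quotient.eq_zero_iff_mem.2 (show Ideal.Quotient.mk I x ∈ J from Ideal.Quotient.eq_zero_iff_mem.1 hx')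
        · obtain ⟨y, rfl⟩ := Ideal.Quotient.mk_surjective y
          obtain ⟨y, rfl⟩ := Ideal.Quotient.mk_surjective y
          exact ⟨Ideal.Quotient.mk J₀ y, rfl⟩
      letI : Algebra (R ⧸ J₀) Λ' :=
        ((algebraMap ((R ⧸ I) ⧸ J) Λ').comp (algebraMap (R ⧸ J₀) ((R ⧸ I) ⧸ J))).toAlgebra
      haveI : IsScalarTower (R ⧸ J₀) ((R ⧸ I) ⧸ J) Λ' := IsScalarTower.of_algebraMap_eq fun _ => rfl
      haveI : IsLocalization (⊥ : Submonoid (R ⧸ J₀)) (R ⧸ J₀) :=
        IsLocalization.self fun x hx => by rw [Submonoid.mem_bot.1 hx]; exact isUnit_one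
      haveI : IsLocalization (⊥ : Submonoid (R ⧸ J₀)) ((R ⧸ I) ⧸ J) :=
        IsLocalization.isLocalization_of_algEquiv (⊥ : Submonoid (R ⧸ J₀))
          (AlgEquiv.ofBijective (Algebra.ofId (R ⧸ J₀) ((R ⧸ I) ⧸ J)) hbij)
      have hreg' : CAlg.IsRegularHom (R ⧸ J₀) Λ' :=
        (GrothLib.GeomReg.isRegularHom_localization_left (⊥ : Submonoid (R ⧸ J₀))).1 (isRegularHom_quotient hreg J)
      exact Separable.indSmooth_of_bijective hbij (ih J₀ hlt Λ' hreg')
    by_cases hred : IsReduced (R ⧸ I)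
    · exact indSmooth_of_reduced hreg hstep
    · haveI := hreg.1
      refine indSmooth_of_nilpotent_flat_deformation (nilradical (R ⧸ I)) (IsNoetherianRing.isNilpotent_nilradical _)
        (hstep _ fun h => hred ⟨fun x hx => ?_⟩)
      have h1 : x ∈ nilradical (R ⧸ I) := mem_nilradical.2 hx
      rwa [h, Ideal.mem_bot] at h1

/-- Regular homomorphisms of Noetherian rings are ind-smooth. -/
theorem indSmooth_of_isRegularHom {R Λ : Type u} [CommRing R] [IsNoetherianRing R] [CommRing Λ]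
    [IsNoetherianRing Λ] [Algebra R Λ] (hreg : CAlg.IsRegularHom R Λ) : IndSmooth R Λ := by
  letI : Algebra (R ⧸ (⊥ : Ideal R)) R := (RingEquiv.quotientBot R).toRingHom.toAlgebra
  letI : Algebra (R ⧸ (⊥ : Ideal R)) Λ :=
    ((algebraMap R Λ).comp (algebraMap (R ⧸ (⊥ : Ideal R)) R)).toAlgebra
  haveI : IsScalarTower (R ⧸ (⊥ : Ideal R)) R Λ := IsScalarTower.of_algebraMap_eq fun _ => rfl
  have hb : Function.Bijective (algebraMap (R ⧸ (⊥ : Ideal R)) R) := (RingEquiv.quotientBot R).bijective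
  haveI : IsLocalization (⊥ : Submonoid (R ⧸ (⊥ : Ideal R))) (R ⧸ (⊥ : Ideal R)) :=
    IsLocalization.self fun x hx => by rw [Submonoid.mem_bot.1 hx]; exact isUnit_one
  haveI : IsLocalization (⊥ : Submonoid (R ⧸ (⊥ : Ideal R))) R :=
    IsLocalization.isLocalization_of_algEquiv (⊥ : Submonoid (R ⧸ (⊥ : Ideal R)))
      (AlgEquiv.ofBijective (Algebra.ofId (R ⧸ (⊥ : Ideal R)) R) hb)
  exact Separable.indSmooth_of_bijective hb (indSmooth_quotient_aux (⊥ : Ideal R) Λ
    ((GrothLib.GeomReg.isRegularHom_localization_left (⊥ : Submonoid (R ⧸ (⊥ : Ideal R)))).1 hreg))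

end Smoothing.Popescu
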