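import Groth.Agent.Lib.Smoothing.SingularIdeal
import Groth.Agent.Lib.Smoothing.Standard

/-!
# A smooth algebra over a unimodular combination of elements of the singular ideal
-/

set_option autoImplicit false
set_option backward.isDefEq.respectTransparency false

open MvPolynomial

namespace Smoothing.Popescu

universe u

variable {R B : Type u} [CommRing R] [CommRing B] [Algebra R B]

/-- The relation `1 - ∑ b_i x_i`. -/
noncomputable def coverRel {r : ℕ} (b : Fin r → B) : MvPolynomial (Fin r) B :=
  1 - ∑ i, MvPolynomial.C (b i) * X i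

/-- The algebra of unimodular coefficient vectors. -/
abbrev Cover {r : ℕ} (b : Fin r → B) : Type u := MvPolynomial (Fin r) B ⧸ Ideal.span {coverRel b}

theorem formallySmooth_cover_away {r : ℕ} (b : Fin r → B) (i₀ : Fin r)
    [Algebra.FormallySmooth R (Localization.Away (b i₀))] :
    Algebra.FormallySmooth R (Localization.Away (algebraMap B (Cover b) (b i₀))) := by
  classical
  let C := Cover b
  let c := algebraMap B C (b i₀)
  let Cc := Localization.Away c
  let Ba := Localization.Away (b i₀)
  let π : MvPolynomial (Fin r) B →ₐ[R] C := Ideal.Quotient.mkₐ R _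
  refine Algebra.FormallySmooth.iff_comp_surjective.2 fun T _ _ I hI F => ?_
  let jC : C →ₐ[R] Cc := IsScalarTower.toAlgHom R C Cc
  let ιB : B →ₐ[R] C := IsScalarTower.toAlgHom R B C
  have hcu : IsUnit (jC c) := IsLocalization.Away.algebraMap_isUnit (S := Cc) c
  let fB : Ba →ₐ[R] T ⧸ I :=
    IsLocalization.liftAlgHom (M := Submonoid.powers (b i₀)) (f := (F.comp jC).comp ιB) (by
      rintro ⟨_, j, rfl⟩
      rw [map_pow]
      exact (hcu.map F).pow j)
  obtain ⟨gB, hgB⟩ := Algebra.FormallySmooth.comp_surjective R Ba I hI fB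
  let hB : B →ₐ[R] T := gB.comp (IsScalarTower.toAlgHom R B Ba)
  have hhB : ∀ x, Ideal.Quotient.mk I (hB x) = F (jC (ιB x)) := fun x =>
    (AlgHom.congr_fun hgB (algebraMap B Ba x)).trans (IsLocalization.lift_eq _ x)
  have hu : IsUnit (hB (b i₀)) := (IsLocalization.Away.algebraMap_isUnit (S := Ba) (b i₀)).map gB
  choose u₀ hu₀ using fun i : Fin r => Ideal.Quotient.mk_surjective (I := I) (F (jC (π (X i))))
  let inv : T := ↑hu.unit⁻¹
  have hinv : hB (b i₀) * inv = 1 := IsUnit.mul_val_inv hu
  let xT : Fin r → T := fun i =>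
    if i = i₀ then inv * (1 - ∑ l ∈ Finset.univ.erase i₀, hB (b l) * u₀ l) else u₀ i
  have hsolve : ∑ i, hB (b i) * xT i = 1 := by
    rw [← Finset.add_sum_erase _ _ (Finset.mem_univ i₀)]
    have h1 : ∑ l ∈ Finset.univ.erase i₀, hB (b l) * xT l = ∑ l ∈ Finset.univ.erase i₀, hB (b l) * u₀ l :=
      Finset.sum_congr rfl fun l hl => by simp only [xT, Finset.ne_of_mem_erase hl, if_false]
    rw [h1]
    simp only [xT, if_true]
    rw [← mul_assoc, hinv, one_mul, sub_add_cancel]
  have hrel : ∑ i, F (jC (ιB (b i))) * F (jC (π (X i))) = 1 := by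
    have h0 : π (coverRel b) = 0 := Ideal.Quotient.eq_zero_iff_mem.2 (Ideal.mem_span_singleton_self _)
    have h1 : π (∑ i, MvPolynomial.C (b i) * X i) = 1 := by
      have h0' : π (1 - ∑ i, MvPolynomial.C (b i) * X i) = 0 := h0
      rw [map_sub, map_one, sub_eq_zero] at h0'
      exact h0'.symm
    have h2 := congrArg (fun y => F (jC y)) h1
    simp only [map_sum, map_mul, map_one] at h2
    exact h2
  have hxT : ∀ i, Ideal.Quotient.mk I (xT i) = F (jC (π (X i))) := by
    intro i
    by_cases hi : i = i₀
    · subst hi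
      have h2 := congrArg (Ideal.Quotient.mk I) hsolve
      simp only [map_sum, map_mul, map_one, hhB] at h2
      rw [← hrel, ← Finset.add_sum_erase _ _ (Finset.mem_univ i),
        ← Finset.add_sum_erase (f := fun l => F (jC (ιB (b l))) * F (jC (π (X l)))) _ (Finset.mem_univ i)] at h2
      have h3 : ∀ l ∈ Finset.univ.erase i, F (jC (ιB (b l))) * Ideal.Quotient.mk I (xT l) =
          F (jC (ιB (b l))) * F (jC (π (X l))) := fun l hl => by
        simp only [xT, Finset.ne_of_mem_erase hl, if_false, hu₀]
      rw [Finset.sum_congr rfl h3] at h2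
      exact (hcu.map F).mul_left_cancel (add_right_cancel h2)
    · simp only [xT, hi, if_false, hu₀]
  let e : MvPolynomial (Fin r) B →+* T := MvPolynomial.eval₂Hom hB.toRingHom xT
  have heC : ∀ x, e (MvPolynomial.C x) = hB x := fun x => MvPolynomial.eval₂Hom_C _ _ x
  have heX : ∀ i, e (X i) = xT i := fun i => MvPolynomial.eval₂Hom_X' _ _ i
  let eC : C →+* T := Ideal.Quotient.lift _ e fun x hx => by
    obtain ⟨y, rfl⟩ := Ideal.mem_span_singleton'.1 hx
    rw [map_mul, coverRel, map_sub, map_one, map_sum]
    simp only [map_mul, heC, heX, hsolve, sub_self, mul_zero]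
  have heCc : IsUnit (eC c) := by
    show IsUnit (e (MvPolynomial.C (b i₀)))
    rw [heC]
    exact hu
  let g : Cc →+* T := IsLocalization.Away.lift c heCc
  have hg : ∀ x, g (algebraMap C Cc x) = eC x := fun x => IsLocalization.Away.lift_eq c heCc x
  refine ⟨AlgHom.mk g fun x => ?_, AlgHom.coe_ringHom_injective ?_⟩
  · show g (algebraMap R Cc x) = algebraMap R T x
    rw [IsScalarTower.algebraMap_apply R C Cc, hg]
    show e (MvPolynomial.C (algebraMap R B x)) = _
    rw [heC]
    exact hB.commutes x
  refine IsLocalization.ringHom_ext (Submonoid.powers c) (RingHom.ext fun x => ?_)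
  obtain ⟨p, rfl⟩ := Ideal.Quotient.mk_surjective x
  show Ideal.Quotient.mk I (g (algebraMap C Cc (Ideal.Quotient.mk _ p))) = F (algebraMap C Cc (Ideal.Quotient.mk _ p))
  rw [hg]
  have : (Ideal.Quotient.mk I).comp e = (F.toRingHom.comp jC.toRingHom).comp π.toRingHom := by
    refine MvPolynomial.ringHom_ext (fun x => ?_) fun i => ?_
    · show Ideal.Quotient.mk I (e (MvPolynomial.C x)) = _
      rw [heC, hhB]
      rfl
    · show Ideal.Quotient.mk I (e (X i)) = _
      rw [heX]
      exact hxT i
  exact RingHom.congr_fun this p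

/-- A factorization whose singular ideal becomes the unit ideal refines to a smooth one. -/
theorem exists_smooth_of_map_singularIdeal_eq_top [IsNoetherianRing R] [Algebra.FinitePresentation R B]
    {Λ : Type u} [CommRing Λ] [Algebra R Λ] (h : B →ₐ[R] Λ) (htop : (singularIdeal R B).map h = ⊤) :
    ∃ (C : Type u) (_ : CommRing C) (_ : Algebra R C), Algebra.Smooth R C ∧
      ∃ (g : B →ₐ[R] C) (k : C →ₐ[R] Λ), k.comp g = h := by
  classical
  haveI : IsNoetherianRing B := Algebra.FiniteType.isNoetherianRing R B
  obtain ⟨r, b, hb⟩ := Submodule.fg_iff_exists_fin_generating_family.1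
    (IsNoetherian.noetherian (singularIdeal R B))
  have hbH : ∀ i, b i ∈ singularIdeal R B := fun i => hb ▸ Submodule.subset_span ⟨i, rfl⟩
  have h1 : (1 : Λ) ∈ Ideal.span (Set.range fun i => h (b i)) := by
    have h2 : (singularIdeal R B).map h = Ideal.span (Set.range fun i => h (b i)) := by
      rw [← hb]
      show (Ideal.span (Set.range b)).map h = _
      rw [Ideal.map_span, ← Set.range_comp]
      rfl
    rw [← h2, htop]
    exact Submodule.mem_top
  obtain ⟨lam, hlam⟩ := Ideal.mem_span_range_iff_exists_fun.1 h1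
  haveI : Algebra.FinitePresentation R (Cover b) := by
    haveI : Algebra.FinitePresentation B (Cover b) :=
      Algebra.FinitePresentation.quotient ⟨{coverRel b}, by rw [Finset.coe_singleton]⟩
    exact Algebra.FinitePresentation.trans R B (Cover b)
  have hsm : Algebra.Smooth R (Cover b) := by
    have hall : ∀ i, Algebra.smoothLocus R (Cover b) ⊇
        PrimeSpectrum.basicOpen (algebraMap B (Cover b) (b i)) := fun i => by
      haveI : Algebra.Smooth R (Localization.Away (b i)) :=
        Algebra.basicOpen_subset_smoothLocus_iff_smooth.1 fun p hp => by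
          by_contra hc
          have h3 := hbH i
          rw [singularIdeal, PrimeSpectrum.mem_vanishingIdeal] at h3
          exact hp (h3 p hc)
      haveI := formallySmooth_cover_away (R := R) b i
      haveI : Algebra.FinitePresentation (Cover b) (Localization.Away (algebraMap B (Cover b) (b i))) :=
        IsLocalization.Away.finitePresentation (algebraMap B (Cover b) (b i))
      exact Algebra.basicOpen_subset_smoothLocus_iff_smooth.2
        ⟨inferInstance, Algebra.FinitePresentation.trans R (Cover b) _⟩
    have huniv : Algebra.smoothLocus R (Cover b) = Set.univ := Set.eq_univ_of_forall fun p => by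
      by_contra hc
      have hmem : ∀ i, algebraMap B (Cover b) (b i) ∈ p.asIdeal := fun i => by
        by_contra hi
        exact hc (hall i hi)
      refine p.2.ne_top ((Ideal.eq_top_iff_one _).2 ?_)
      have h0 : Ideal.Quotient.mk (Ideal.span {coverRel b}) (coverRel b) = 0 :=
        Ideal.Quotient.eq_zero_iff_mem.2 (Ideal.mem_span_singleton_self _)
      have h0' : Ideal.Quotient.mk (Ideal.span {coverRel b}) (1 - ∑ i, MvPolynomial.C (b i) * X i) = 0 := h0
      rw [map_sub, map_one, sub_eq_zero, map_sum] at h0'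
      rw [h0']
      refine Ideal.sum_mem _ fun i _ => ?_
      rw [map_mul]
      exact Ideal.mul_mem_right _ _ (hmem i)
    exact ⟨Algebra.smoothLocus_eq_univ_iff.1 huniv, inferInstance⟩
  let k : MvPolynomial (Fin r) B →+* Λ := MvPolynomial.eval₂Hom h.toRingHom lam
  have hk : ∀ x ∈ Ideal.span {coverRel b}, k x = 0 := fun x hx => by
    obtain ⟨y, rfl⟩ := Ideal.mem_span_singleton'.1 hx
    have h4 : k (coverRel b) = 0 := by
      rw [coverRel, map_sub, map_one, map_sum, sub_eq_zero, ← hlam]
      refine Finset.sum_congr rfl fun i _ => ?_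
      rw [map_mul, show k (MvPolynomial.C (b i)) = h (b i) from MvPolynomial.eval₂Hom_C _ _ _,
        show k (X i) = lam i from MvPolynomial.eval₂Hom_X' _ _ _, mul_comm]
    rw [map_mul, h4, mul_zero]
  refine ⟨Cover b, inferInstance, inferInstance, hsm, IsScalarTower.toAlgHom R B (Cover b),
    { Ideal.Quotient.lift _ k hk with
      commutes' := fun x => (MvPolynomial.eval₂Hom_C _ _ _).trans (h.commutes x) },
    AlgHom.ext fun x => MvPolynomial.eval₂Hom_C _ _ x⟩

end Smoothing.Popescu
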